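import Mathlib

/-! Table for the exceptional regular subgroup of GL(2,59). -/

namespace CfsgLib.SharpTwo59

def regL : List (ℕ × ℕ × ℕ × ℕ) := [(1, 0, 0, 1), (0, 58, 1, 0), (9, 15, 49, 49), (58, 0, 0, 58), (10, 10, 9, 15), (15, 50, 49, 10), (49, 44, 10, 9), (0, 1, 58, 0), (50, 44, 10, 10), (10, 49, 15, 50), (49, 50, 49, 44), (48, 20, 46, 45), (44, 10, 9, 49), (49, 49, 50, 44), (44, 9, 10, 49), (10, 15, 49, 50), (13, 14, 48, 20), (50, 10, 44, 10), (20, 11, 45, 13), (55, 48, 23, 4), (1, 29, 4, 58), (49, 10, 44, 9), (10, 9, 10, 15), (11, 39, 13, 14), (15, 49, 50, 10), (14, 46, 20, 11), (36, 55, 55, 48), (55, 1, 1, 29), (11, 13, 39, 14), (48, 4, 4, 36), (29, 58, 58, 55), (14, 20, 46, 11), (46, 45, 11, 39), (9, 49, 15, 49), (39, 48, 14, 46), (4, 11, 36, 55), (58, 30, 55, 1), (20, 45, 11, 13), (55, 23, 48, 4), (1, 4, 29, 58), (13, 48, 14, 20), (28, 35, 34, 32), (38, 31, 30, 54), (35, 32, 31, 25), (45, 13, 39, 48), (23, 4, 4, 11), (4, 58, 58, 30), (48, 46,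 20, 45), (11, 55, 55, 23), (30, 1, 1, 4), (45, 39, 13, 48), (25, 27, 28, 35), (29, 5, 38, 31), (28, 34, 35, 32), (35, 31, 32, 25), (31, 21, 54, 29), (32, 24, 25, 28), (54, 28, 29, 38), (39, 14, 48, 46), (4, 36, 11, 55), (58, 55, 30, 1), (46, 11, 45, 39), (31, 24, 25, 27), (21, 28, 29, 5), (24, 27, 28, 34), (27, 34, 35, 31), (5, 30, 31, 21), (34, 31, 32, 24), (30, 21, 54, 28), (5, 38, 38, 53), (10, 19, 19, 48), (28, 5, 38, 30), (34, 32, 31, 24), (30, 54, 21, 28), (31, 25, 24, 27), (24, 28, 27, 34), (28, 38, 5, 30), (27, 35, 34, 31), (5, 31, 30, 21), (21, 6, 5, 38), (40, 11, 10, 19), (21, 29, 28, 5), (38, 54, 53, 21), (19, 49, 48, 40), (18, 19, 45, 41), (25, 16, 42, 34), (32, 25, 24, 28), (54, 29, 28, 38), (25, 28, 27, 35), (29, 38, 5, 31), (54, 21, 21, 6), (49, 40, 40, 11), (31, 54, 21, 29), (6, 38, 38, 54), (11, 19, 19, 49), (14, 18, 18, 19), (17, 25, 25, 16), (38, 30, 31, 54), (19, 41, 41, 14), (16, 34, 34, 17), (38, 53, 54, 21), (19, 48, 49, 40),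 (21, 5, 6, 38), (40, 10, 11, 19), (41, 40, 14, 18), (34, 43, 17, 25), (18, 45, 19, 41), (25, 42, 16, 34), (42, 34, 34, 43), (56, 52, 52, 3), (40, 18, 18, 45), (53, 21, 21, 5), (48, 40, 40, 10), (45, 41, 41, 40), (43, 25, 25, 42), (7, 56, 56, 52), (41, 14, 40, 18), (34, 17, 43, 25), (52, 3, 3, 7), (3, 7, 7, 56)]

def regPar : List (ℕ × ℕ) := [(0, 0), (0, 0), (0, 1), (1, 0), (1, 1), (2, 0), (2, 1), (3, 0), (3, 1), (4, 0), (4, 1), (5, 1), (6, 0), (7, 1), (8, 0), (8, 1), (9, 1), (10, 0), (11, 0), (11, 1), (12, 1), (13, 0), (13, 1), (14, 1), (15, 0), (16, 0), (16, 1), (17, 1), (18, 1), (19, 0), (20, 0), (20, 1), (21, 1), (22, 0), (23, 0), (23, 1), (24, 1), (25, 1), (26, 0), (27, 0), (27, 1), (28, 1), (29, 1), (30, 1), (32, 0), (32, 1), (33, 1), (34, 1), (35, 0), (36, 0), (36, 1), (37, 1), (38, 1), (39, 1), (41, 0), (42, 0), (42, 1), (43, 1), (44, 1), (45, 0), (46, 0), (46, 1), (47, 1), (48, 1), (49, 1), (51, 0), (52, 0), (52, 1), (53, 1), (54, 1), (55,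 1), (57, 0), (58, 1), (59, 1), (60, 1), (62, 0), (63, 0), (63, 1), (64, 1), (65, 1), (66, 1), (68, 0), (69, 0), (69, 1), (70, 1), (71, 1), (72, 0), (73, 0), (73, 1), (74, 1), (75, 1), (76, 1), (78, 0), (79, 0), (79, 1), (80, 1), (81, 1), (82, 1), (84, 0), (85, 0), (86, 1), (87, 1), (90, 0), (90, 1), (91, 1), (92, 1), (95, 0), (96, 0), (97, 1), (98, 1), (99, 1), (100, 0), (100, 1), (101, 1), (105, 0), (106, 1), (107, 1), (108, 0), (109, 0), (110, 1)]

def regW : List (List (ℕ × ℕ)) := [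
  [(0, 0), (0, 1), (15, 7), (25, 1), (1, 1), (3, 1), (11, 7), (9, 1), (16, 7), (21, 1), (18, 7), (27, 7), (26, 1), (8, 7), (24, 7), (28, 1), (2, 1), (20, 1), (7, 7), (19, 1), (4, 1), (5, 1), (13, 1), (22, 7), (12, 7), (6, 1), (23, 1), (17, 1), (10, 1), (14, 1), (14, 7), (10, 7), (17, 7), (23, 7), (6, 7), (12, 1), (22, 1), (13, 7), (5, 7), (4, 7), (19, 7), (7, 1), (20, 7), (2, 7), (28, 7), (24, 1), (8, 1), (26, 7), (27, 1), (18, 1), (21, 7), (16, 1), (9, 7), (11, 1), (3, 7), (1, 7), (25, 7), (15, 1), (0, 7)],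
  [(0, 0), (11, 10), (15, 30), (23, 107), (0, 20), (2, 29), (26, 78), (24, 63), (20, 115), (28, 35), (12, 77), (17, 43), (8, 2), (7, 26), (19, 71), (10, 101), (19, 53), (25, 18), (26, 66), (1, 5), (23, 51), (24, 81), (4, 119), (1, 24), (22, 116), (2, 47), (18, 111), (10, 98), (2, 11), (0, 39), (23, 85), (11, 21), (22, 104), (25, 37), (24, 102), (5, 113), (19, 76), (5, 50), (17, 54), (27, 99), (21, 32), (8, 33), (15, 52), (26, 69), (28, 46), (12, 65), (10, 83), (28, 59), (24, 79), (15, 89), (2, 112), (21, 61), (5, 44), (23, 88), (11, 13), (11, 91), (19, 41), (9, 96), (11, 6)],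
  [(15, 3), (9, 105), (26, 22), (26, 9), (1, 49), (8, 84), (9, 117), (11, 58), (15, 36), (10, 82), (17, 48), (20, 95), (12, 57), (5, 55), (10, 42), (20, 31), (6, 118), (3, 75), (14, 19), (13, 114), (27, 56), (7, 16), (3, 64), (23, 17), (23, 8), (1, 73), (22, 45), (12, 90), (5, 92), (14, 27), (25, 80), (27, 86), (5, 74), (25, 103), (11, 34), (14, 38), (12, 87), (10, 100), (16, 14), (1, 68), (9, 72), (17, 94), (10, 97), (7, 40), (19, 109), (20, 25), (16, 12), (9, 67), (8, 106), (26, 4), (17, 28), (26, 70), (4, 93), (5, 62), (25, 110), (24, 108), (17, 23), (26, 15), (15, 60)],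
  [(25, 0), (19, 51), (17, 32), (7, 10), (20, 81), (4, 33), (11, 30), (0, 119), (11, 52), (19, 107), (26, 24), (22, 69), (25, 20), (18, 116), (24, 46), (27, 29), (27, 47), (8, 65), (22, 78), (14, 111), (6, 83), (20, 63), (6, 98), (24, 59), (16, 115), (27, 11), (20, 79), (24, 35), (25, 39), (11, 89), (8, 77), (19, 85), (27, 112), (13, 43), (7, 21), (17, 61), (4, 2), (18, 104), (1, 44), (3, 26), (21, 37), (19, 88), (15, 71), (20, 102), (7, 13), (6, 101), (1, 113), (7, 91), (15, 53), (15, 76), (15, 41), (21, 18), (1, 50), (5, 96), (22, 66), (13, 54), (7, 6), (26, 5), (23, 99)],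
  [(1, 0), (11, 101), (24, 85), (13, 65), (12, 10), (20, 53), (12, 21), (11, 83), (16, 30), (26, 18), (23, 104), (0, 59), (24, 107), (27, 66), (26, 37), (25, 79), (1, 20), (2, 5), (25, 102), (16, 89), (3, 29), (24, 51), (6, 113), (3, 112), (27, 78), (25, 81), (20, 76), (22, 61), (25, 63), (5, 119), (6, 50), (6, 44), (21, 115), (2, 24), (18, 54), (24, 88), (0, 35), (23, 116), (28, 99), (12, 13), (13, 77), (3, 47), (22, 32), (12, 91), (18, 43), (19, 111), (9, 33), (20, 41), (9, 2), (11, 98), (16, 52), (10, 96), (8, 26), (3, 11), (27, 69), (12, 6), (20, 71), (1, 39), (0, 46)],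
  [(3, 0), (11, 2), (25, 116), (22, 76), (27, 79), (14, 10), (10, 26), (5, 47), (8, 50), (18, 89), (18, 30), (22, 71), (21, 111), (20, 54), (5, 112), (26, 107), (13, 101), (13, 98), (1, 99), (24, 61), (3, 20), (22, 53), (5, 11), (24, 32), (8, 44), (5, 29), (28, 18), (3, 39), (11, 33), (26, 88), (0, 78), (0, 66), (26, 85), (18, 52), (14, 13), (27, 63), (4, 5), (14, 21), (0, 69), (14, 91), (23, 115), (26, 51), (25, 104), (2, 46), (22, 41), (2, 35), (27, 81), (28, 37), (15, 65), (12, 96), (15, 77), (7, 119), (27, 102), (13, 83), (14, 6), (20, 43), (4, 24), (8, 113), (2, 59)],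
  [(11, 3), (23, 56), (5, 72), (5, 105), (3, 16), (13, 94), (22, 22), (28, 64), (6, 97), (22, 9), (19, 17), (3, 40), (26, 49), (19, 8), (15, 109), (4, 84), (26, 73), (16, 25), (5, 117), (18, 45), (12, 12), (7, 58), (8, 90), (5, 67), (11, 36), (1, 92), (4, 106), (6, 82), (10, 27), (22, 4), (13, 48), (21, 80), (13, 28), (16, 95), (23, 86), (22, 70), (8, 57), (1, 74), (0, 93), (1, 55), (21, 103), (1, 62), (6, 42), (7, 34), (21, 110), (16, 31), (10, 38), (20, 108), (2, 118), (8, 87), (13, 23), (28, 75), (6, 100), (22, 15), (10, 19), (12, 14), (11, 60), (9, 114), (26, 68)],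
  [(9, 0), (5, 18), (4, 102), (1, 61), (8, 35), (27, 111), (6, 69), (20, 10), (6, 66), (14, 113), (14, 44), (21, 77), (19, 98), (8, 46), (24, 30), (10, 5), (28, 76), (3, 88), (26, 43), (11, 11), (21, 65), (3, 107), (3, 51), (14, 50), (20, 13), (17, 2), (9, 39), (19, 83), (9, 20), (4, 81), (26, 54), (20, 91), (16, 26), (3, 85), (8, 59), (11, 29), (13, 119), (7, 99), (28, 41), (28, 71), (20, 21), (4, 79), (6, 78), (10, 24), (1, 32), (18, 96), (19, 101), (2, 104), (24, 89), (4, 63), (2, 116), (17, 33), (20, 6), (28, 53), (5, 37), (11, 112), (0, 115), (11, 47), (24, 52)],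
  [(16, 3), (21, 31), (26, 80), (21, 25), (10, 105), (7, 118), (28, 86), (17, 12), (27, 22), (4, 75), (6, 74), (10, 67), (27, 9), (15, 19), (26, 103), (9, 106), (2, 49), (14, 114), (12, 34), (27, 4), (9, 84), (28, 56), (15, 38), (18, 28), (10, 117), (8, 16), (13, 87), (27, 70), (12, 58), (4, 64), (11, 100), (5, 93), (16, 36), (24, 17), (17, 14), (6, 62), (11, 82), (24, 8), (2, 68), (26, 110), (18, 48), (2, 73), (10, 72), (25, 108), (21, 95), (23, 45), (18, 94), (18, 23), (13, 57), (13, 90), (11, 97), (27, 15), (6, 55), (6, 92), (8, 40), (16, 60), (11, 42), (15, 27), (20, 109)],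
  [(21, 0), (2, 83), (17, 37), (15, 51), (16, 63), (15, 88), (13, 32), (2, 98), (11, 71), (3, 10), (20, 59), (16, 102), (16, 81), (12, 115), (3, 13), (0, 33), (23, 11), (2, 101), (7, 30), (16, 79), (26, 113), (25, 119), (20, 35), (3, 91), (7, 52), (21, 39), (11, 53), (15, 107), (7, 89), (11, 76), (22, 24), (4, 77), (11, 41), (18, 69), (15, 85), (17, 18), (21, 20), (23, 112), (26, 50), (14, 116), (9, 43), (1, 96), (20, 46), (3, 21), (18, 66), (23, 29), (13, 61), (9, 54), (23, 47), (0, 2), (3, 6), (4, 65), (14, 104), (22, 5), (18, 78), (26, 44), (19, 99), (10, 111), (28, 26)],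
  [(18, 3), (15, 57), (26, 8), (15, 87), (11, 106), (12, 105), (8, 55), (4, 73), (13, 100), (0, 4), (0, 22), (13, 42), (25, 45), (19, 14), (20, 28), (0, 9), (23, 31), (15, 90), (4, 68), (0, 70), (4, 49), (9, 118), (8, 92), (12, 72), (7, 93), (11, 84), (6, 75), (17, 27), (20, 94), (8, 62), (12, 117), (17, 19), (28, 80), (13, 97), (28, 110), (14, 58), (16, 114), (1, 86), (10, 40), (27, 108), (18, 36), (1, 56), (8, 74), (22, 109), (20, 23), (13, 82), (10, 16), (28, 103), (23, 25), (0, 15), (20, 48), (6, 64), (14, 34), (19, 12), (18, 60), (23, 95), (26, 17), (17, 38), (12, 67)],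
  [(27, 3), (24, 90), (8, 110), (15, 64), (9, 4), (15, 75), (2, 109), (24, 57), (13, 68), (23, 58), (23, 34), (9, 22), (26, 27), (0, 23), (6, 8), (9, 70), (25, 114), (28, 12), (22, 42), (0, 94), (22, 82), (24, 87), (13, 49), (10, 86), (27, 60), (5, 45), (17, 62), (19, 16), (20, 106), (18, 118), (19, 40), (3, 95), (28, 14), (21, 117), (8, 103), (21, 105), (17, 92), (7, 108), (6, 17), (0, 28), (26, 19), (3, 25), (17, 55), (21, 72), (27, 36), (26, 38), (9, 9), (8, 80), (9, 15), (13, 73), (16, 93), (10, 56), (21, 67), (3, 31), (22, 97), (0, 48), (22, 100), (20, 84), (17, 74)],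
  [(26, 0), (28, 29), (9, 77), (7, 101), (20, 51), (28, 47), (20, 85), (2, 113), (18, 32), (9, 65), (28, 112), (8, 91), (8, 10), (23, 78), (14, 43), (16, 53), (21, 81), (15, 111), (8, 21), (16, 76), (5, 33), (7, 83), (18, 61), (16, 41), (12, 30), (21, 63), (5, 2), (22, 18), (1, 119), (7, 98), (19, 104), (2, 50), (12, 52), (25, 59), (2, 44), (6, 96), (20, 107), (17, 115), (4, 26), (23, 66), (27, 24), (28, 11), (22, 37), (14, 54), (23, 69), (21, 79), (20, 88), (8, 6), (26, 20), (25, 35), (16, 71), (27, 5), (19, 116), (26, 39), (21, 102), (24, 99), (25, 46), (12, 89), (8, 13)],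
  [(8, 3), (10, 94), (16, 17), (1, 84), (9, 12), (27, 92), (10, 48), (19, 70), (18, 103), (13, 31), (10, 23), (9, 14), (20, 56), (19, 22), (0, 40), (23, 73), (4, 58), (1, 106), (18, 80), (5, 57), (27, 62), (7, 38), (25, 75), (8, 60), (2, 72), (25, 64), (23, 49), (13, 25), (5, 90), (3, 82), (10, 28), (27, 74), (3, 42), (17, 108), (3, 100), (6, 114), (2, 105), (3, 97), (16, 8), (2, 117), (2, 67), (7, 27), (13, 95), (26, 93), (4, 34), (28, 118), (19, 15), (23, 68), (0, 16), (19, 9), (12, 109), (15, 45), (8, 36), (19, 4), (20, 86), (27, 55), (18, 110), (5, 87), (7, 19)],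
  [(24, 3), (12, 75), (20, 34), (6, 70), (19, 82), (2, 45), (16, 40), (18, 105), (23, 19), (23, 38), (13, 93), (26, 48), (21, 90), (28, 109), (6, 22), (22, 114), (21, 87), (14, 62), (0, 95), (14, 92), (0, 25), (6, 9), (7, 56), (19, 100), (5, 110), (21, 57), (23, 27), (25, 12), (10, 49), (16, 16), (25, 14), (4, 108), (14, 55), (5, 80), (18, 67), (17, 84), (12, 64), (10, 68), (26, 23), (19, 42), (7, 86), (17, 106), (18, 117), (3, 17), (18, 72), (6, 15), (0, 31), (14, 74), (6, 4), (20, 58), (3, 8), (26, 94), (24, 60), (15, 118), (5, 103), (26, 28), (24, 36), (10, 73), (19, 97)],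
  [(28, 0), (28, 20), (19, 115), (7, 2), (18, 53), (22, 51), (21, 116), (1, 11), (21, 104), (18, 76), (20, 32), (27, 46), (23, 79), (4, 44), (18, 41), (10, 10), (1, 29), (27, 35), (6, 26), (24, 18), (23, 81), (1, 47), (28, 39), (24, 37), (4, 50), (7, 33), (11, 65), (14, 89), (22, 88), (8, 96), (14, 30), (25, 78), (11, 77), (18, 71), (25, 66), (3, 119), (17, 111), (22, 85), (23, 102), (16, 54), (14, 52), (9, 83), (1, 112), (10, 13), (10, 6), (22, 107), (23, 63), (16, 43), (9, 101), (0, 5), (0, 24), (9, 98), (10, 21), (4, 113), (26, 99), (25, 69), (27, 59), (20, 61), (10, 91)],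
  [(2, 0), (26, 79), (7, 50), (20, 111), (12, 101), (2, 20), (7, 44), (10, 33), (25, 85), (3, 5), (22, 115), (21, 41), (14, 65), (26, 102), (3, 24), (10, 2), (13, 10), (17, 89), (19, 54), (12, 98), (21, 53), (4, 29), (25, 88), (17, 52), (13, 21), (25, 51), (1, 35), (11, 96), (12, 83), (7, 113), (24, 116), (9, 26), (17, 30), (4, 112), (0, 99), (4, 11), (27, 18), (28, 78), (13, 13), (28, 69), (24, 104), (26, 81), (14, 77), (13, 6), (1, 59), (21, 76), (4, 47), (21, 71), (25, 107), (23, 61), (23, 32), (2, 39), (28, 66), (26, 63), (13, 91), (1, 46), (27, 37), (6, 119), (19, 43)],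
  [(20, 0), (15, 63), (10, 71), (15, 81), (22, 11), (25, 113), (6, 52), (6, 89), (10, 41), (20, 20), (8, 43), (17, 66), (22, 47), (13, 104), (18, 99), (1, 83), (14, 88), (2, 10), (11, 115), (1, 101), (24, 119), (20, 39), (10, 76), (17, 69), (22, 112), (0, 96), (22, 29), (28, 2), (21, 5), (9, 111), (16, 37), (12, 32), (19, 59), (2, 13), (6, 30), (19, 35), (10, 53), (21, 24), (14, 85), (25, 50), (19, 46), (12, 61), (2, 6), (17, 78), (27, 26), (14, 51), (1, 98), (15, 102), (28, 33), (15, 79), (2, 91), (14, 107), (3, 77), (16, 18), (13, 116), (2, 21), (8, 54), (3, 65), (25, 44)],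
  [(7, 3), (8, 12), (17, 103), (19, 56), (3, 58), (26, 62), (1, 72), (4, 90), (2, 42), (1, 105), (1, 67), (3, 34), (28, 16), (7, 36), (17, 110), (9, 94), (26, 92), (12, 31), (18, 22), (0, 106), (6, 38), (24, 64), (2, 82), (16, 108), (2, 97), (6, 27), (27, 118), (18, 9), (18, 4), (4, 87), (15, 17), (9, 48), (9, 23), (28, 40), (17, 80), (24, 75), (22, 49), (9, 28), (2, 100), (15, 8), (12, 95), (18, 15), (11, 109), (19, 86), (6, 19), (0, 84), (18, 70), (8, 14), (22, 73), (4, 57), (7, 60), (12, 25), (26, 74), (5, 114), (1, 117), (25, 93), (22, 68), (14, 45), (26, 55)],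
  [(19, 0), (21, 11), (9, 41), (21, 47), (13, 88), (23, 119), (21, 112), (20, 5), (18, 59), (9, 53), (18, 46), (26, 26), (27, 33), (2, 77), (7, 54), (14, 63), (24, 113), (19, 20), (12, 104), (1, 10), (19, 39), (28, 96), (8, 111), (1, 13), (20, 24), (11, 61), (13, 51), (14, 79), (15, 18), (2, 65), (9, 71), (5, 52), (7, 43), (17, 99), (10, 115), (9, 76), (21, 29), (15, 37), (5, 30), (13, 85), (1, 6), (0, 98), (1, 91), (12, 116), (24, 44), (14, 81), (5, 89), (16, 66), (0, 83), (0, 101), (16, 69), (27, 2), (11, 32), (18, 35), (24, 50), (16, 78), (14, 102), (13, 107), (1, 21)],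
  [(4, 0), (27, 107), (1, 78), (3, 35), (12, 2), (14, 101), (1, 66), (28, 81), (26, 116), (14, 98), (27, 85), (0, 37), (23, 76), (2, 99), (19, 52), (16, 65), (28, 79), (25, 61), (15, 13), (13, 96), (15, 10), (4, 20), (28, 63), (16, 77), (11, 26), (23, 53), (5, 5), (8, 119), (6, 47), (6, 11), (15, 21), (28, 102), (9, 50), (25, 32), (1, 69), (14, 83), (19, 89), (9, 44), (15, 91), (15, 6), (19, 30), (6, 29), (24, 115), (21, 43), (23, 71), (0, 18), (27, 51), (5, 24), (22, 111), (4, 39), (26, 104), (9, 113), (21, 54), (12, 33), (3, 46), (3, 59), (6, 112), (27, 88), (23, 41)],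
  [(5, 0), (17, 65), (16, 21), (1, 18), (28, 107), (0, 79), (0, 102), (28, 51), (2, 78), (26, 61), (10, 50), (6, 24), (4, 35), (16, 13), (26, 32), (23, 111), (13, 2), (14, 96), (2, 69), (5, 39), (15, 101), (16, 10), (15, 83), (27, 104), (2, 66), (5, 20), (20, 89), (10, 113), (0, 81), (0, 63), (10, 44), (22, 54), (27, 116), (17, 77), (16, 91), (13, 33), (15, 98), (12, 26), (16, 6), (4, 46), (28, 85), (24, 53), (20, 30), (4, 59), (1, 37), (6, 5), (7, 29), (7, 112), (24, 76), (9, 119), (25, 115), (28, 88), (3, 99), (7, 47), (22, 43), (24, 41), (20, 52), (7, 11), (24, 71)],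
  [(13, 0), (5, 61), (10, 69), (18, 113), (23, 98), (14, 5), (1, 43), (7, 107), (24, 13), (23, 83), (1, 54), (7, 85), (17, 119), (3, 71), (10, 78), (22, 96), (28, 89), (21, 33), (9, 37), (15, 47), (9, 18), (12, 35), (24, 10), (18, 44), (12, 46), (3, 76), (15, 11), (7, 51), (21, 2), (13, 20), (24, 91), (12, 59), (11, 99), (24, 21), (14, 24), (23, 101), (8, 63), (24, 6), (15, 112), (28, 52), (8, 102), (2, 111), (10, 66), (25, 77), (28, 30), (7, 88), (25, 65), (18, 50), (13, 39), (8, 81), (20, 26), (15, 29), (3, 41), (8, 79), (5, 32), (6, 104), (6, 116), (3, 53), (4, 115)],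
  [(22, 3), (19, 87), (12, 55), (4, 4), (0, 45), (4, 9), (8, 68), (13, 118), (11, 93), (21, 27), (16, 117), (17, 97), (20, 114), (2, 108), (12, 74), (17, 82), (27, 25), (10, 64), (22, 60), (21, 38), (19, 57), (15, 106), (8, 73), (4, 22), (23, 14), (27, 31), (4, 70), (12, 92), (15, 84), (24, 94), (21, 19), (3, 110), (5, 86), (22, 36), (26, 109), (14, 16), (4, 15), (18, 34), (27, 95), (16, 67), (1, 8), (16, 105), (17, 100), (17, 42), (24, 28), (19, 90), (8, 49), (16, 72), (10, 75), (12, 62), (3, 80), (18, 58), (14, 40), (5, 56), (24, 23), (3, 103), (24, 48), (23, 12), (1, 17)],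
  [(12, 3), (5, 84), (14, 48), (17, 31), (24, 56), (27, 73), (22, 80), (11, 38), (6, 72), (17, 25), (14, 28), (21, 108), (6, 105), (6, 117), (17, 95), (3, 118), (4, 16), (19, 45), (24, 86), (9, 87), (14, 94), (13, 12), (23, 70), (14, 23), (23, 22), (8, 58), (9, 57), (0, 75), (0, 64), (9, 90), (2, 74), (7, 100), (7, 97), (6, 67), (1, 93), (23, 15), (23, 9), (12, 36), (2, 55), (11, 19), (20, 17), (2, 92), (22, 103), (13, 14), (4, 40), (5, 106), (2, 62), (12, 60), (27, 49), (7, 82), (7, 42), (10, 114), (20, 8), (11, 27), (8, 34), (27, 68), (16, 109), (23, 4), (22, 110)],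
  [(6, 0), (24, 111), (11, 44), (7, 5), (18, 65), (14, 2), (23, 54), (8, 29), (17, 21), (15, 96), (28, 116), (8, 112), (2, 18), (3, 69), (18, 77), (25, 76), (0, 107), (6, 39), (17, 91), (10, 119), (1, 79), (16, 101), (14, 33), (26, 115), (1, 102), (17, 10), (16, 98), (0, 88), (0, 51), (16, 83), (13, 26), (4, 99), (3, 78), (28, 104), (17, 6), (8, 47), (27, 61), (3, 66), (5, 46), (23, 43), (11, 50), (6, 20), (0, 85), (25, 41), (7, 24), (21, 89), (25, 53), (21, 52), (5, 35), (11, 113), (21, 30), (8, 11), (17, 13), (1, 81), (5, 59), (25, 71), (27, 32), (1, 63), (2, 37)],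
  [(23, 0), (25, 47), (25, 112), (13, 53), (2, 33), (18, 63), (16, 104), (3, 96), (24, 24), (18, 79), (13, 71), (21, 99), (25, 29), (17, 85), (5, 91), (18, 81), (4, 83), (2, 2), (28, 50), (17, 107), (25, 11), (17, 88), (24, 5), (22, 46), (6, 77), (28, 113), (5, 10), (12, 111), (15, 61), (19, 18), (9, 52), (14, 115), (19, 37), (5, 6), (16, 116), (9, 89), (4, 101), (15, 32), (20, 78), (5, 21), (13, 41), (27, 119), (22, 59), (1, 26), (11, 54), (23, 20), (23, 39), (5, 13), (17, 51), (6, 65), (11, 43), (13, 76), (9, 30), (4, 98), (28, 44), (20, 66), (20, 69), (22, 35), (18, 102)],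
  [(17, 0), (22, 113), (5, 43), (27, 83), (21, 119), (26, 96), (13, 37), (16, 35), (16, 46), (11, 51), (28, 91), (28, 21), (12, 63), (3, 52), (14, 66), (11, 88), (17, 39), (19, 29), (9, 32), (7, 53), (9, 61), (27, 98), (11, 107), (5, 54), (7, 71), (3, 89), (19, 47), (28, 10), (7, 76), (25, 2), (16, 59), (18, 24), (28, 6), (12, 102), (0, 77), (0, 65), (12, 81), (7, 41), (10, 104), (8, 115), (14, 69), (18, 5), (28, 13), (11, 85), (14, 78), (25, 33), (13, 18), (22, 44), (19, 11), (17, 20), (15, 99), (27, 101), (19, 112), (6, 111), (3, 30), (22, 50), (24, 26), (12, 79), (10, 116)],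
  [(10, 0), (11, 5), (27, 54), (19, 96), (6, 18), (0, 76), (21, 91), (20, 101), (5, 102), (4, 88), (17, 26), (3, 104), (2, 61), (27, 43), (4, 85), (25, 89), (9, 35), (12, 11), (9, 59), (5, 63), (28, 111), (22, 65), (12, 29), (3, 116), (7, 69), (4, 107), (14, 119), (18, 33), (21, 10), (4, 51), (8, 99), (21, 6), (7, 66), (15, 50), (0, 41), (0, 53), (15, 113), (21, 13), (0, 71), (6, 37), (15, 44), (18, 2), (21, 21), (12, 112), (22, 77), (10, 39), (5, 79), (1, 115), (20, 98), (20, 83), (7, 78), (12, 47), (9, 46), (10, 20), (11, 24), (25, 52), (25, 30), (5, 81), (2, 32)],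
  [(14, 0), (23, 96), (25, 91), (8, 88), (6, 61), (0, 89), (13, 59), (26, 65), (11, 69), (22, 33), (12, 99), (19, 50), (19, 113), (10, 37), (25, 21), (14, 39), (24, 98), (16, 47), (15, 24), (9, 81), (15, 5), (10, 18), (24, 101), (21, 26), (2, 43), (13, 35), (9, 63), (16, 29), (8, 107), (25, 10), (25, 6), (4, 41), (25, 13), (19, 44), (16, 112), (9, 79), (24, 83), (13, 46), (0, 52), (6, 32), (2, 54), (4, 76), (9, 102), (7, 104), (8, 85), (16, 11), (3, 111), (7, 116), (18, 119), (8, 51), (11, 66), (4, 53), (4, 71), (22, 2), (26, 77), (5, 115), (11, 78), (14, 20), (0, 30)],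
  [(14, 3), (0, 49), (14, 36), (11, 57), (5, 118), (26, 56), (22, 8), (4, 92), (4, 74), (11, 87), (8, 72), (18, 109), (7, 106), (3, 93), (16, 23), (8, 105), (7, 84), (9, 82), (4, 55), (2, 75), (6, 16), (0, 73), (13, 27), (24, 103), (9, 100), (16, 94), (19, 25), (25, 4), (4, 62), (25, 15), (25, 22), (8, 117), (16, 48), (9, 42), (13, 19), (2, 64), (21, 45), (24, 80), (10, 34), (15, 14), (9, 97), (15, 12), (16, 28), (24, 110), (14, 60), (25, 9), (10, 58), (19, 95), (19, 31), (12, 114), (22, 17), (11, 90), (26, 86), (13, 38), (0, 68), (6, 40), (8, 67), (25, 70), (23, 108)],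
  [(10, 3), (2, 16), (5, 97), (25, 49), (25, 73), (11, 12), (10, 36), (9, 27), (12, 28), (7, 57), (20, 103), (20, 110), (1, 118), (5, 100), (10, 60), (22, 56), (12, 94), (21, 9), (18, 8), (15, 25), (6, 58), (0, 92), (21, 4), (15, 95), (0, 74), (0, 62), (15, 31), (7, 87), (21, 15), (8, 114), (4, 72), (21, 22), (18, 17), (14, 109), (4, 117), (7, 90), (3, 106), (12, 48), (22, 86), (28, 93), (5, 42), (9, 38), (12, 23), (9, 19), (25, 68), (4, 105), (27, 64), (2, 40), (3, 84), (17, 45), (4, 67), (5, 82), (20, 80), (21, 70), (0, 55), (6, 34), (19, 108), (27, 75), (11, 14)],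
  [(17, 3), (10, 106), (12, 100), (24, 45), (22, 31), (3, 49), (6, 93), (19, 94), (27, 80), (15, 114), (17, 36), (19, 23), (22, 25), (13, 34), (25, 17), (14, 57), (11, 105), (28, 4), (18, 14), (14, 90), (8, 118), (10, 84), (7, 62), (12, 97), (0, 86), (0, 56), (12, 82), (28, 15), (18, 12), (16, 38), (25, 8), (7, 55), (28, 22), (19, 28), (3, 68), (7, 92), (5, 75), (11, 117), (27, 110), (9, 40), (7, 74), (9, 16), (19, 48), (17, 60), (11, 67), (14, 87), (3, 73), (12, 42), (28, 9), (28, 70), (11, 72), (16, 27), (16, 19), (13, 58), (26, 108), (21, 109), (27, 103), (5, 64), (22, 95)],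
  [(23, 3), (18, 82), (22, 19), (20, 90), (20, 87), (28, 25), (4, 110), (9, 49), (13, 55), (11, 64), (6, 86), (17, 72), (5, 4), (23, 60), (23, 36), (11, 75), (1, 45), (22, 38), (27, 109), (13, 62), (5, 9), (20, 57), (15, 16), (4, 80), (9, 68), (16, 106), (5, 15), (19, 58), (14, 118), (9, 73), (19, 34), (15, 40), (12, 93), (5, 22), (28, 95), (6, 56), (22, 27), (24, 14), (17, 67), (25, 23), (17, 117), (28, 31), (2, 8), (4, 103), (18, 97), (5, 70), (17, 105), (25, 48), (21, 114), (13, 92), (18, 100), (24, 12), (3, 108), (16, 84), (18, 42), (2, 17), (13, 74), (25, 94), (25, 28)],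
  [(6, 3), (2, 58), (1, 42), (27, 16), (25, 92), (5, 38), (1, 97), (17, 4), (8, 23), (21, 49), (11, 95), (5, 19), (21, 73), (25, 74), (21, 68), (7, 12), (25, 62), (0, 105), (6, 36), (11, 31), (23, 64), (5, 27), (3, 87), (27, 40), (8, 28), (17, 15), (28, 84), (3, 57), (4, 114), (13, 45), (16, 103), (0, 72), (0, 67), (16, 110), (17, 22), (1, 82), (26, 118), (14, 17), (16, 80), (1, 100), (10, 109), (17, 70), (6, 60), (0, 117), (25, 55), (18, 56), (3, 90), (2, 34), (8, 94), (28, 106), (15, 108), (17, 9), (8, 48), (23, 75), (14, 8), (18, 86), (7, 14), (11, 25), (24, 93)],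
  [(12, 0), (22, 98), (23, 13), (16, 119), (27, 89), (8, 18), (11, 46), (20, 2), (10, 99), (7, 63), (7, 102), (27, 30), (12, 39), (2, 41), (5, 116), (4, 61), (13, 5), (22, 83), (2, 71), (20, 33), (11, 35), (2, 76), (12, 20), (23, 21), (23, 6), (1, 111), (6, 88), (7, 81), (7, 79), (2, 53), (9, 69), (0, 43), (0, 54), (9, 78), (8, 37), (23, 10), (14, 11), (23, 91), (13, 24), (14, 112), (9, 66), (24, 65), (19, 26), (4, 32), (3, 115), (17, 113), (6, 107), (6, 85), (21, 96), (14, 47), (17, 44), (6, 51), (11, 59), (22, 101), (27, 52), (24, 77), (17, 50), (14, 29), (5, 104)],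
  [(22, 0), (1, 33), (23, 24), (24, 29), (3, 83), (24, 11), (5, 77), (14, 61), (18, 37), (3, 101), (12, 41), (10, 54), (16, 51), (8, 30), (19, 69), (24, 47), (17, 63), (17, 79), (16, 85), (1, 2), (16, 88), (27, 113), (18, 18), (4, 6), (14, 32), (26, 119), (22, 20), (5, 65), (3, 98), (21, 35), (24, 112), (15, 104), (12, 71), (4, 91), (27, 50), (23, 5), (4, 10), (8, 52), (15, 116), (19, 78), (21, 59), (22, 39), (10, 43), (27, 44), (17, 102), (12, 53), (2, 96), (20, 99), (17, 81), (16, 107), (21, 46), (11, 111), (13, 115), (8, 89), (4, 21), (0, 26), (4, 13), (12, 76), (19, 66)],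
  [(13, 3), (4, 118), (3, 74), (6, 106), (6, 84), (5, 16), (8, 100), (3, 62), (15, 48), (20, 45), (8, 97), (13, 60), (18, 31), (25, 86), (7, 67), (28, 49), (25, 56), (10, 87), (2, 93), (8, 82), (28, 73), (15, 94), (24, 15), (8, 42), (23, 80), (14, 12), (24, 9), (11, 114), (12, 38), (24, 70), (13, 36), (21, 8), (7, 72), (15, 23), (3, 55), (12, 27), (18, 25), (24, 22), (12, 19), (9, 34), (15, 28), (9, 58), (21, 17), (28, 68), (22, 108), (10, 57), (3, 92), (17, 109), (7, 105), (1, 75), (23, 103), (24, 4), (7, 117), (1, 64), (14, 14), (23, 110), (18, 95), (10, 90), (5, 40)],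
  [(5, 3), (24, 92), (7, 23), (20, 73), (24, 62), (22, 64), (7, 28), (3, 114), (28, 67), (25, 118), (9, 109), (24, 55), (7, 94), (7, 48), (6, 14), (1, 58), (4, 38), (20, 49), (24, 74), (28, 105), (4, 27), (16, 15), (12, 45), (15, 110), (13, 17), (16, 70), (17, 56), (27, 106), (22, 75), (10, 25), (0, 42), (0, 97), (10, 95), (20, 68), (5, 36), (2, 87), (27, 84), (15, 103), (16, 22), (15, 80), (5, 60), (2, 90), (14, 108), (13, 8), (23, 93), (26, 16), (16, 4), (4, 19), (6, 12), (10, 31), (26, 40), (2, 57), (28, 72), (0, 82), (0, 100), (28, 117), (1, 34), (16, 9), (17, 86)],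
  [(4, 3), (23, 62), (27, 67), (6, 94), (3, 38), (3, 27), (12, 17), (21, 75), (9, 95), (26, 84), (4, 60), (22, 93), (5, 12), (27, 72), (0, 34), (23, 92), (21, 64), (24, 118), (6, 48), (19, 49), (15, 15), (15, 70), (9, 25), (19, 68), (14, 103), (1, 90), (25, 16), (9, 31), (28, 82), (15, 9), (6, 23), (6, 28), (8, 109), (5, 14), (23, 74), (11, 45), (16, 56), (28, 42), (4, 36), (15, 22), (13, 108), (15, 4), (25, 40), (28, 100), (16, 86), (19, 73), (2, 114), (23, 55), (0, 58), (27, 105), (14, 110), (26, 106), (28, 97), (1, 87), (14, 80), (12, 8), (3, 19), (1, 57), (27, 117)],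
  [(19, 3), (1, 9), (13, 117), (14, 82), (16, 57), (24, 31), (18, 19), (11, 16), (27, 8), (16, 90), (0, 80), (0, 103), (16, 87), (5, 68), (14, 97), (24, 25), (12, 106), (1, 70), (0, 110), (1, 15), (13, 105), (5, 49), (15, 58), (21, 48), (9, 55), (10, 118), (17, 114), (7, 64), (5, 73), (9, 92), (2, 86), (15, 34), (14, 100), (13, 72), (11, 40), (20, 12), (1, 4), (8, 93), (28, 108), (19, 60), (1, 22), (12, 84), (19, 36), (24, 95), (14, 42), (7, 75), (2, 56), (27, 17), (26, 45), (18, 27), (9, 74), (18, 38), (20, 14), (21, 94), (23, 109), (13, 67), (21, 28), (9, 62), (21, 23)],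
  [(7, 0), (26, 76), (14, 26), (22, 89), (25, 111), (1, 107), (5, 99), (26, 53), (12, 44), (7, 39), (4, 78), (22, 52), (8, 5), (18, 91), (0, 104), (6, 35), (19, 65), (11, 119), (18, 6), (12, 113), (15, 2), (2, 79), (9, 47), (22, 30), (24, 54), (17, 101), (28, 61), (9, 11), (9, 29), (15, 33), (4, 66), (18, 13), (18, 21), (27, 115), (6, 46), (2, 81), (16, 96), (2, 102), (24, 43), (6, 59), (0, 116), (18, 10), (12, 50), (26, 71), (9, 112), (17, 98), (7, 20), (28, 32), (3, 18), (1, 88), (1, 85), (2, 63), (4, 69), (1, 51), (26, 41), (3, 37), (19, 77), (17, 83), (8, 24)],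
  [(20, 3), (25, 25), (3, 86), (8, 75), (2, 9), (13, 106), (16, 34), (3, 56), (14, 117), (2, 70), (15, 100), (28, 17), (15, 82), (1, 110), (14, 72), (27, 45), (17, 57), (2, 15), (12, 40), (19, 27), (25, 31), (14, 105), (21, 12), (10, 74), (19, 19), (6, 49), (2, 4), (19, 38), (12, 16), (16, 58), (9, 93), (21, 14), (28, 8), (22, 48), (0, 108), (22, 94), (17, 90), (10, 55), (20, 60), (24, 109), (1, 80), (11, 118), (2, 22), (14, 67), (1, 103), (18, 114), (13, 84), (22, 28), (17, 87), (8, 64), (20, 36), (10, 62), (6, 68), (6, 73), (25, 95), (22, 23), (15, 97), (10, 92), (15, 42)],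
  [(2, 3), (19, 64), (6, 109), (27, 58), (1, 27), (13, 70), (26, 42), (28, 87), (2, 60), (23, 16), (23, 40), (25, 117), (21, 92), (4, 28), (21, 55), (1, 38), (13, 15), (14, 56), (26, 97), (24, 84), (28, 90), (13, 4), (28, 57), (27, 34), (4, 23), (0, 114), (4, 94), (17, 49), (9, 45), (24, 106), (7, 95), (12, 103), (11, 108), (1, 19), (25, 72), (13, 9), (17, 73), (25, 67), (4, 48), (21, 74), (12, 110), (19, 75), (17, 68), (13, 22), (10, 8), (3, 12), (26, 82), (14, 86), (21, 62), (22, 118), (3, 14), (25, 105), (10, 17), (7, 25), (2, 36), (12, 80), (20, 93), (7, 31), (26, 100)],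
  [(28, 3), (10, 70), (20, 40), (27, 38), (25, 90), (26, 114), (4, 95), (10, 9), (9, 110), (0, 12), (0, 14), (9, 80), (16, 64), (23, 42), (22, 117), (10, 15), (10, 4), (1, 94), (9, 103), (14, 73), (16, 75), (23, 82), (22, 105), (17, 93), (3, 109), (25, 87), (18, 92), (11, 56), (25, 57), (14, 49), (8, 108), (22, 67), (14, 68), (11, 86), (7, 17), (4, 31), (24, 58), (28, 60), (1, 28), (23, 97), (24, 34), (6, 45), (27, 19), (1, 48), (10, 22), (18, 62), (4, 25), (23, 100), (27, 27), (20, 16), (18, 55), (21, 84), (1, 23), (21, 106), (22, 72), (18, 74), (7, 8), (19, 118), (28, 36)],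
  [(24, 0), (19, 81), (10, 52), (24, 20), (26, 47), (5, 83), (15, 115), (24, 39), (26, 112), (3, 2), (20, 37), (6, 13), (14, 53), (0, 50), (6, 6), (18, 51), (3, 33), (18, 107), (17, 116), (7, 65), (19, 63), (26, 11), (10, 89), (12, 43), (17, 104), (18, 88), (5, 101), (14, 76), (4, 96), (25, 5), (16, 32), (10, 30), (25, 24), (23, 46), (21, 78), (5, 98), (19, 79), (7, 77), (6, 21), (0, 44), (14, 71), (0, 113), (14, 41), (21, 66), (22, 99), (6, 10), (28, 119), (21, 69), (26, 29), (13, 111), (23, 59), (23, 35), (18, 85), (16, 61), (2, 26), (19, 102), (6, 91), (20, 18), (12, 54)],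
  [(8, 0), (7, 35), (5, 66), (18, 98), (27, 76), (20, 65), (19, 13), (8, 20), (15, 26), (12, 119), (19, 21), (0, 32), (23, 89), (19, 6), (28, 115), (4, 18), (26, 111), (13, 113), (7, 46), (2, 88), (2, 107), (16, 2), (3, 81), (2, 85), (6, 99), (3, 79), (17, 96), (3, 63), (27, 53), (10, 47), (3, 102), (5, 69), (13, 44), (23, 30), (25, 43), (2, 51), (8, 39), (25, 54), (7, 59), (27, 41), (5, 78), (18, 101), (1, 116), (4, 37), (23, 52), (0, 61), (19, 10), (20, 77), (9, 5), (10, 11), (13, 50), (18, 83), (19, 91), (10, 29), (27, 71), (9, 24), (1, 104), (16, 33), (10, 112)],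
  [(26, 3), (8, 4), (12, 68), (25, 27), (24, 114), (21, 82), (26, 60), (19, 106), (27, 14), (16, 92), (25, 19), (26, 36), (8, 15), (20, 67), (21, 100), (23, 90), (14, 75), (22, 58), (28, 23), (27, 12), (23, 87), (4, 45), (17, 118), (20, 117), (6, 108), (2, 25), (25, 38), (12, 73), (2, 31), (19, 84), (7, 110), (1, 109), (22, 34), (5, 8), (21, 42), (12, 49), (16, 62), (18, 40), (7, 103), (5, 17), (16, 55), (8, 9), (15, 93), (21, 97), (16, 74), (14, 64), (23, 57), (8, 22), (8, 70), (28, 94), (9, 86), (18, 16), (2, 95), (20, 105), (28, 28), (20, 72), (7, 80), (9, 56), (28, 48)],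
  [(27, 0), (17, 53), (20, 104), (22, 79), (0, 29), (22, 81), (3, 50), (21, 88), (10, 77), (16, 111), (13, 52), (9, 6), (8, 101), (9, 21), (26, 59), (27, 20), (21, 51), (17, 76), (3, 44), (26, 35), (0, 47), (6, 33), (7, 96), (17, 71), (21, 85), (8, 83), (21, 107), (28, 5), (3, 113), (19, 61), (18, 115), (20, 116), (19, 32), (17, 41), (5, 26), (27, 39), (10, 65), (13, 30), (24, 66), (22, 102), (0, 112), (22, 63), (28, 24), (25, 99), (9, 91), (6, 2), (0, 11), (26, 46), (9, 10), (23, 18), (23, 37), (13, 89), (24, 78), (2, 119), (15, 54), (9, 13), (15, 43), (8, 98), (24, 69)],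
  [(18, 0), (12, 88), (17, 59), (26, 33), (23, 113), (18, 39), (19, 24), (14, 18), (6, 43), (20, 29), (0, 6), (23, 44), (28, 83), (10, 32), (13, 102), (20, 11), (22, 119), (8, 53), (1, 77), (18, 20), (27, 96), (10, 61), (1, 65), (16, 99), (14, 37), (28, 98), (13, 81), (28, 101), (17, 35), (12, 107), (8, 41), (20, 112), (17, 46), (6, 54), (11, 104), (7, 111), (12, 51), (8, 71), (9, 115), (4, 30), (0, 91), (4, 89), (15, 69), (23, 50), (0, 21), (20, 47), (19, 5), (25, 26), (13, 63), (0, 10), (0, 13), (13, 79), (4, 52), (8, 76), (12, 85), (11, 116), (15, 66), (26, 2), (15, 78)],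
  [(21, 3), (28, 45), (10, 93), (19, 114), (26, 25), (18, 57), (22, 14), (14, 84), (4, 86), (3, 15), (0, 8), (23, 28), (9, 75), (13, 40), (23, 48), (18, 87), (3, 9), (20, 27), (1, 108), (9, 64), (14, 106), (26, 31), (23, 94), (21, 36), (17, 34), (15, 105), (18, 90), (11, 62), (4, 56), (22, 12), (11, 55), (7, 68), (15, 117), (11, 74), (21, 60), (7, 73), (3, 70), (20, 19), (25, 109), (26, 95), (16, 100), (7, 49), (2, 80), (23, 23), (0, 17), (3, 4), (12, 118), (16, 97), (16, 82), (20, 38), (3, 22), (11, 92), (2, 110), (13, 16), (15, 67), (16, 42), (15, 72), (17, 58), (2, 103)],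
  [(16, 0), (20, 119), (15, 46), (11, 63), (16, 39), (8, 61), (6, 71), (6, 76), (27, 6), (11, 81), (13, 69), (13, 78), (18, 11), (18, 112), (23, 26), (21, 113), (25, 96), (10, 51), (2, 52), (18, 29), (26, 98), (2, 89), (24, 2), (11, 102), (6, 41), (17, 5), (24, 33), (16, 20), (5, 111), (11, 79), (4, 43), (12, 37), (27, 91), (13, 66), (8, 32), (10, 107), (18, 47), (15, 59), (28, 77), (9, 104), (27, 13), (12, 18), (14, 99), (2, 30), (9, 116), (26, 83), (15, 35), (27, 21), (10, 88), (6, 53), (4, 54), (27, 10), (17, 24), (28, 65), (7, 115), (10, 85), (21, 44), (26, 101), (21, 50)],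
  [(9, 3), (24, 73), (11, 28), (0, 118), (11, 94), (5, 58), (28, 74), (20, 15), (17, 17), (2, 106), (4, 42), (24, 68), (2, 84), (19, 80), (18, 108), (1, 16), (10, 12), (6, 57), (4, 100), (20, 9), (28, 92), (28, 62), (7, 114), (13, 109), (11, 48), (8, 38), (3, 105), (16, 45), (20, 70), (26, 75), (4, 97), (9, 36), (19, 103), (9, 60), (17, 8), (20, 4), (14, 31), (3, 72), (3, 117), (21, 86), (11, 23), (26, 64), (3, 67), (28, 55), (10, 14), (24, 49), (8, 27), (19, 110), (21, 56), (14, 25), (14, 95), (6, 87), (20, 22), (6, 90), (27, 93), (8, 19), (1, 40), (4, 82), (5, 34)],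
  [(11, 0), (26, 89), (9, 99), (11, 39), (12, 5), (10, 35), (22, 6), (6, 79), (28, 54), (13, 11), (8, 66), (2, 115), (20, 96), (10, 59), (16, 50), (21, 98), (7, 18), (6, 63), (1, 41), (21, 83), (1, 76), (0, 111), (1, 53), (8, 78), (22, 91), (23, 65), (16, 113), (13, 47), (21, 101), (13, 29), (22, 13), (10, 46), (6, 102), (4, 116), (1, 71), (11, 20), (5, 88), (8, 69), (7, 37), (12, 24), (18, 26), (5, 107), (16, 44), (26, 52), (4, 104), (15, 119), (19, 2), (26, 30), (3, 61), (19, 33), (22, 21), (6, 81), (28, 43), (22, 10), (13, 112), (3, 32), (5, 85), (5, 51), (23, 77)],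
  [(3, 3), (2, 38), (8, 95), (4, 12), (20, 64), (14, 15), (13, 103), (27, 82), (7, 109), (15, 56), (12, 108), (15, 86), (28, 58), (27, 97), (2, 19), (22, 62), (2, 27), (25, 84), (26, 72), (23, 118), (14, 70), (0, 90), (14, 9), (4, 14), (27, 42), (14, 4), (18, 73), (26, 105), (0, 87), (0, 57), (26, 67), (11, 17), (3, 60), (28, 34), (5, 48), (8, 25), (24, 16), (5, 23), (22, 74), (3, 36), (24, 40), (1, 114), (13, 110), (13, 80), (26, 117), (5, 94), (20, 75), (21, 93), (22, 92), (18, 49), (18, 68), (8, 31), (5, 28), (10, 45), (14, 22), (27, 100), (22, 55), (25, 106), (11, 8)],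
  [(1, 3), (0, 27), (1, 60), (20, 92), (12, 15), (27, 90), (3, 23), (8, 45), (10, 108), (16, 73), (11, 110), (9, 8), (20, 62), (9, 17), (19, 93), (18, 64), (12, 70), (22, 16), (3, 28), (13, 56), (12, 4), (28, 114), (23, 106), (0, 19), (24, 67), (18, 75), (2, 12), (21, 118), (6, 25), (6, 31), (5, 109), (25, 42), (22, 40), (20, 55), (25, 97), (27, 57), (3, 94), (6, 95), (24, 72), (3, 48), (16, 68), (25, 82), (2, 14), (1, 36), (25, 100), (26, 58), (27, 87), (24, 117), (0, 38), (23, 84), (26, 34), (16, 49), (11, 103), (12, 9), (20, 74), (12, 22), (13, 86), (24, 105), (11, 80)],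
  [(25, 3), (23, 114), (26, 14), (7, 15), (13, 75), (22, 87), (5, 108), (1, 31), (21, 34), (15, 62), (15, 55), (15, 74), (7, 70), (1, 95), (6, 80), (7, 4), (20, 82), (15, 92), (19, 67), (21, 58), (3, 45), (1, 25), (18, 84), (4, 8), (17, 40), (7, 9), (13, 64), (27, 94), (19, 105), (8, 56), (11, 68), (25, 60), (24, 19), (20, 100), (27, 23), (16, 118), (24, 38), (6, 110), (20, 42), (6, 103), (14, 93), (22, 57), (8, 86), (27, 28), (27, 48), (24, 27), (18, 106), (25, 36), (22, 90), (26, 12), (19, 117), (11, 73), (0, 109), (11, 49), (4, 17), (20, 97), (7, 22), (17, 16), (19, 72)],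
  [(15, 0), (15, 39), (26, 6), (17, 11), (24, 96), (25, 98), (5, 41), (4, 111), (26, 91), (17, 47), (26, 13), (8, 116), (9, 88), (16, 24), (20, 44), (19, 119), (7, 61), (10, 81), (17, 112), (9, 51), (1, 89), (16, 5), (10, 79), (12, 66), (14, 59), (11, 18), (25, 83), (5, 53), (27, 65), (25, 101), (14, 46), (5, 71), (12, 69), (22, 26), (1, 52), (23, 2), (23, 33), (3, 43), (7, 32), (27, 77), (13, 99), (14, 35), (3, 54), (6, 115), (20, 50), (10, 63), (5, 76), (12, 78), (20, 113), (17, 29), (10, 102), (15, 20), (11, 37), (9, 107), (8, 104), (1, 30), (26, 21), (26, 10), (9, 85)],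
  [(0, 3), (11, 15), (9, 108), (19, 62), (11, 70), (11, 4), (23, 67), (5, 25), (21, 40), (2, 94), (15, 68), (24, 100), (28, 38), (10, 103), (12, 86), (28, 27), (26, 90), (15, 73), (8, 17), (21, 16), (27, 114), (17, 75), (5, 31), (19, 55), (5, 95), (24, 82), (25, 58), (22, 84), (11, 9), (23, 105), (0, 60), (2, 23), (10, 110), (18, 93), (2, 28), (22, 106), (1, 12), (4, 109), (24, 97), (23, 72), (1, 14), (26, 87), (25, 34), (19, 74), (10, 80), (19, 92), (7, 45), (8, 8), (17, 64), (12, 56), (28, 19), (20, 118), (24, 42), (26, 57), (2, 48), (0, 36), (23, 117), (15, 49), (11, 22)]]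

end CfsgLib.SharpTwo59
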